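import Groth.Agent.CurvesA.PtAffine
import Mathlib.RingTheory.DedekindDomain.Factorization
import Mathlib.Topology.JacobsonSpace

/-!
# Two rational functions on a smooth proper curve with prescribed minimal order

For a closed point `x` of a smooth proper integral curve there are rational functions `a, b` such
that `min(v_y(a), v_y(b)) - min(0, v_y(a))` is `1` for `y = x` and `0` for the other closed points.
-/

set_option autoImplicit false
set_option backward.isDefEq.respectTransparency.types false
universe u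

open CategoryTheory AlgebraicGeometry TopologicalSpace Opposite

namespace K473.CurveGen

open Groth.Agent.Picfga.RegLocus Groth.Agent.CurvesA.PtAffine Groth.Agent.CurvesA

variable {X : Scheme.{u}} [IsIntegral X]

/-- `g` is a generator of the fractional ideal `a O_x + b O_x`. -/
def Gen (x : X) (a b g : X.functionField) : Prop :=
  g ≠ 0 ∧ ∃ α β : X.presheaf.stalk x, algebraMap _ X.functionField α * g = a ∧
    algebraMap _ X.functionField β * g = b ∧ (IsUnit α ∨ IsUnit β)

/-- There are two closed points on a curve. -/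
theorem exists_other {k : Type u} [Field k] (f : X ⟶ Spec (CommRingCat.of k))
    [LocallyOfFiniteType f] (hdim : topologicalKrullDim X = 1) (x : X) (hx : x ≠ genericPoint X) :
    ∃ y : X, y ≠ genericPoint X ∧ y ≠ x := by
  by_contra! hcon
  have hJ : JacobsonSpace X := LocallyOfFiniteType.jacobsonSpace f
  have h1 : closedPoints X ⊆ {x} := by
    intro y hy
    exact hcon y ((CurveDvr.isClosed_singleton_iff hdim y).1 hy)
  have h2 : closure (closedPoints X) ⊆ {x} := by
    rw [((CurveDvr.isClosed_singleton_iff hdim x).2 hx).closure_subset_iff]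
    exact h1
  rw [closure_closedPoints] at h2
  exact hx (h2 (Set.mem_univ (genericPoint X))).symm

/-- In a discrete valuation ring, nonzero elements divide high powers of non-units. -/
theorem exists_dvd_pow {R : Type*} [CommRing R] [IsDomain R] [IsDiscreteValuationRing R] {p w : R}
    (hp : p ≠ 0) (hw : ¬ IsUnit w) : ∃ n : ℕ, p ∣ w ^ n := by
  obtain ⟨ϖ, hϖ⟩ := IsDiscreteValuationRing.exists_irreducible R
  obtain ⟨n, hn⟩ := IsDiscreteValuationRing.associated_pow_irreducible hp hϖ
  refine ⟨n, hn.dvd.trans (pow_dvd_pow_of_dvd ?_ n)⟩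
  have h1 : w ∈ IsLocalRing.maximalIdeal R := hw
  rw [hϖ.maximalIdeal_eq] at h1
  exact Ideal.mem_span_singleton.1 h1

/-- If `z` has a pole at `x` then `z ^ n * m` has a pole (at least, its inverse is regular). -/
theorem exists_pow_mul_inv_mem {x : X} [IsDiscreteValuationRing (X.presheaf.stalk x)]
    {z m : X.functionField} (hz : x ∉ reg z) (hm : m ≠ 0) :
    ∃ n : ℕ, x ∈ reg (z ^ n * m)⁻¹ := by
  have h1 : z⁻¹ ∈ Set.range (algebraMap (X.presheaf.stalk x) X.functionField) :=
    (ValuationRing.isInteger_or_isInteger (X.presheaf.stalk x) z).resolve_left hz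
  obtain ⟨w, hw⟩ := h1
  have hw' : ¬ IsUnit w := by
    intro h
    apply hz
    obtain ⟨v, hv⟩ := h.exists_left_inv
    refine mem_reg.2 ⟨v, ?_⟩
    have hz0 : z ≠ 0 := by
      rintro rfl
      exact hz (mem_reg.2 ⟨0, map_zero _⟩)
    have h2 := congrArg (algebraMap (X.presheaf.stalk x) X.functionField) hv
    rw [map_mul, hw, map_one] at h2
    field_simp at h2
    exact h2
  obtain ⟨p, q, hq, hpq⟩ := IsFractionRing.div_surjective (A := X.presheaf.stalk x) m
  have hp0 : p ≠ 0 := by
    rintro rfl
    rw [map_zero, zero_div] at hpq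
    exact hm hpq.symm
  obtain ⟨n, c, hc⟩ := exists_dvd_pow hp0 hw'
  refine ⟨n, mem_reg.2 ⟨c * q, ?_⟩⟩
  have hp1 : algebraMap (X.presheaf.stalk x) X.functionField p ≠ 0 := by
    rwa [Ne, FaithfulSMul.algebraMap_eq_zero_iff]
  have h3 := congrArg (algebraMap (X.presheaf.stalk x) X.functionField) hc
  rw [map_pow, hw, map_mul] at h3
  rw [map_mul, mul_inv, ← inv_pow, h3, ← hpq, inv_div]
  field_simp

theorem gen_self {x : X} {a b : X.functionField} (ha : a ≠ 0) (h : x ∈ reg (b / a)) :
    Gen x a b a := by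
  obtain ⟨β, hβ⟩ := mem_reg.1 h
  refine ⟨ha, 1, β, by rw [map_one, one_mul], ?_, Or.inl isUnit_one⟩
  rw [hβ]
  field_simp

theorem Gen.symm {x : X} {a b g : X.functionField} (h : Gen x a b g) : Gen x b a g := by
  obtain ⟨h1, α, β, h2, h3, h4⟩ := h
  exact ⟨h1, β, α, h3, h2, h4.symm⟩

/-- Integral functions on an affine open generating the ideal of a closed point. -/
theorem exists_gen_of_span {V : X.Opens} [Nonempty V] (hV : IsAffineOpen V)
    (hdvr : ∀ x : X, x ≠ genericPoint X → IsDiscreteValuationRing (X.presheaf.stalk x))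
    [IsDedekindDomain Γ(X, V)]
    (x : X) (hx : x ≠ genericPoint X) (hxV : x ∈ V) {a b : Γ(X, V)}
    (hab : (DivOpen.toPrime V hV x hxV hx).asIdeal = Ideal.span {a, b})
    (y : X) (hy : y ≠ genericPoint X) (hyV : y ∈ V) :
    ∃ (g : X.functionField) (u : X.presheaf.stalk y),
      Gen y (X.germToFunctionField V a) (X.germToFunctionField V b) g ∧
      g = algebraMap _ X.functionField u ∧ (y ≠ x → IsUnit u) ∧
        (y = x → Ideal.span {u} = IsLocalRing.maximalIdeal (X.presheaf.stalk y)) := by
  have ha : ∀ (s : Γ(X, V)), algebraMap _ X.functionField (X.presheaf.germ V y hyV s) =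
    X.germToFunctionField V s := fun s =>
      Scheme.algebraMap_germ_eq_germToFunctionField X (U := V) hyV s
  have hd := hdvr y hy
  let _ := TopCat.Presheaf.algebra_section_stalk X.presheaf (U := V) ⟨y, hyV⟩
  have h2 : IsLocalization.AtPrime (X.presheaf.stalk y)
      (DivOpen.toPrime V hV y hyV hy).asIdeal := hV.isLocalization_stalk ⟨y, hyV⟩
  by_cases hyx : y = x
  · subst hyx
    have h3 : Ideal.map (algebraMap Γ(X, V) (X.presheaf.stalk y))
        (DivOpen.toPrime V hV y hyV hy).asIdeal = IsLocalRing.maximalIdeal _ :=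
      IsLocalization.AtPrime.map_eq_maximalIdeal (DivOpen.toPrime V hV y hyV hy).asIdeal
        (X.presheaf.stalk y)
    rw [hab, Ideal.map_span, Set.image_pair] at h3
    have h4 : Ideal.span {X.presheaf.germ V y hyV a, X.presheaf.germ V y hyV b} =
      IsLocalRing.maximalIdeal (X.presheaf.stalk y) := h3
    have hne : IsLocalRing.maximalIdeal (X.presheaf.stalk y) ≠ ⊥ :=
      IsDiscreteValuationRing.not_a_field _
    have h0 : ∀ {c d : X.presheaf.stalk y}, c ∣ d → Ideal.span {c, d} = Ideal.span {c} := by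
      intro c d h
      rw [Ideal.span_pair_comm, Ideal.span_insert, sup_eq_right, Ideal.span_singleton_le_span_singleton]
      exact h
    have h00 : ∀ {c : X.presheaf.stalk y}, Ideal.span {c} = IsLocalRing.maximalIdeal _ →
        algebraMap _ X.functionField c ≠ 0 := by
      intro c h hc
      rw [FaithfulSMul.algebraMap_eq_zero_iff] at hc
      rw [hc, Ideal.span_singleton_eq_bot.2 rfl] at h
      exact hne h.symm
    rcases ValuationRing.dvd_total (X.presheaf.germ V y hyV a)
        (X.presheaf.germ V y hyV b) with h | h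
    · rw [h0 h] at h4
      obtain ⟨c, hc⟩ := h
      refine ⟨_, _, ⟨h00 h4, 1, c, ?_, ?_, Or.inl isUnit_one⟩, rfl, fun h => absurd rfl h,
        fun _ => h4⟩
      · rw [map_one, one_mul, ha]
      · rw [← ha b, hc, map_mul, mul_comm]
    · rw [Ideal.span_pair_comm, h0 h] at h4
      obtain ⟨c, hc⟩ := h
      refine ⟨_, _, ⟨h00 h4, c, 1, ?_, ?_, Or.inr isUnit_one⟩, rfl, fun h => absurd rfl h,
        fun _ => h4⟩
      · rw [← ha a, hc, map_mul, mul_comm]
      · rw [map_one, one_mul, ha]
  · refine ⟨1, 1, ⟨one_ne_zero, X.presheaf.germ V y hyV a, X.presheaf.germ V y hyV b, ?_, ?_, ?_⟩,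
      (map_one _).symm, fun _ => isUnit_one, fun h => absurd h hyx⟩
    · rw [mul_one, ha]
    · rw [mul_one, ha]
    · by_contra! hcon
      have h5 : ∀ s : Γ(X, V), ¬ IsUnit (X.presheaf.germ V y hyV s) →
          s ∈ (DivOpen.toPrime V hV y hyV hy).asIdeal := by
        intro s hs
        by_contra hs'
        exact hs (IsLocalization.map_units (X.presheaf.stalk y)
          (⟨s, hs'⟩ : (DivOpen.toPrime V hV y hyV hy).asIdeal.primeCompl))
      have h6 : (DivOpen.toPrime V hV x hxV hx).asIdeal ≤
          (DivOpen.toPrime V hV y hyV hy).asIdeal := by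
        rw [hab, Ideal.span_le]
        rintro s (rfl | rfl)
        · exact h5 _ hcon.1
        · exact h5 _ hcon.2
      have h7 := (DivOpen.toPrime V hV x hxV hx).isMaximal.eq_of_le
        (DivOpen.toPrime V hV y hyV hy).isPrime.ne_top h6
      have h8 : DivOpen.toPrime V hV x hxV hx = DivOpen.toPrime V hV y hyV hy :=
        IsDedekindDomain.HeightOneSpectrum.ext h7
      have h9 := congrArg (DivOpen.toPoint V hV) h8
      rw [DivOpen.toPoint_toPrime, DivOpen.toPoint_toPrime] at h9
      exact hyx (congrArg Subtype.val h9).symm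

/-- The two functions. -/
theorem exists_pair {k : Type u} [Field k] (f : X ⟶ Spec (CommRingCat.of k))
    [IsProper f] [Smooth f] (hdim : topologicalKrullDim X = 1) (x : X) (hx : x ≠ genericPoint X) :
    ∃ a b : X.functionField, ∀ y : X, y ≠ genericPoint X →
      ∃ (g₁ g₂ : X.functionField) (u : X.presheaf.stalk y), Gen y a b g₁ ∧ Gen y 1 a g₂ ∧
        g₁ = algebraMap _ X.functionField u * g₂ ∧ (y ≠ x → IsUnit u) ∧
        (y = x → Ideal.span {u} = IsLocalRing.maximalIdeal (X.presheaf.stalk y)) := by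
  have hLN : IsLocallyNoetherian X := LocallyOfFiniteType.isLocallyNoetherian f
  have hdvr := CurveDvr.isDiscreteValuationRing_stalk f hdim.le
  obtain ⟨y₀, hy₀, hy₀x⟩ := exists_other f hdim x hx
  obtain ⟨z, hU, hz⟩ := exists_isAffineOpen f hdim.le
    (Groth.Agent.Picfga.CurvePts.valuationRing_stalk f hdim.le) hdvr y₀ hy₀
  have hDed : IsDedekindDomain Γ(X, reg z) := DivOpen.isDedekindDomain (reg z) hU hdvr
  have hxU : x ∈ reg z := (hz x).2 (Ne.symm hy₀x)
  obtain ⟨m, hmP, hm0⟩ : ∃ m ∈ (DivOpen.toPrime (reg z) hU x hxU hx).asIdeal, m ≠ 0 :=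
    Submodule.exists_mem_ne_zero_of_ne_bot (DivOpen.toPrime (reg z) hU x hxU hx).ne_bot
  have := hdvr y₀ hy₀
  have hinj : Function.Injective (X.germToFunctionField (reg z)) :=
    X.germToFunctionField_injective (reg z)
  obtain ⟨n, hn⟩ := exists_pow_mul_inv_mem (x := y₀) (z := z)
    (m := X.germToFunctionField (reg z) m) (fun h => (hz y₀).1 h rfl)
    (fun h => hm0 (hinj (h.trans (map_zero _).symm)))
  have hz0 : z ≠ 0 := by
    rintro rfl
    exact (hz y₀).1 (mem_reg.2 ⟨0, map_zero _⟩) rfl
  let e : Γ(X, reg z) := sec z ^ n * m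
  have he : X.germToFunctionField (reg z) e = z ^ n * X.germToFunctionField (reg z) m := by
    rw [map_mul, map_pow, germToFunctionField_sec]
  have he0 : e ≠ 0 := by
    refine mul_ne_zero (pow_ne_zero _ fun h => hz0 ?_) hm0
    rw [← germToFunctionField_sec z, h, map_zero]
  have heP : e ∈ (DivOpen.toPrime (reg z) hU x hxU hx).asIdeal := Ideal.mul_mem_left _ _ hmP
  obtain ⟨b', hb'⟩ := IsDedekindDomain.exists_eq_span_pair heP he0
  obtain ⟨a, b, hab, ha0, h1, h2⟩ : ∃ a b : Γ(X, reg z),
      (DivOpen.toPrime (reg z) hU x hxU hx).asIdeal = Ideal.span {a, b} ∧ a ≠ 0 ∧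
      y₀ ∈ reg (X.germToFunctionField (reg z) a)⁻¹ ∧
      y₀ ∈ reg (X.germToFunctionField (reg z) b / X.germToFunctionField (reg z) a) := by
    rw [← he] at hn
    rcases ValuationRing.isInteger_or_isInteger (X.presheaf.stalk y₀)
      (X.germToFunctionField (reg z) b' / X.germToFunctionField (reg z) e) with h | h
    · exact ⟨e, b', hb', he0, hn, h⟩
    · have hb0 : b' ≠ 0 ∨ b' = 0 := by tauto
      rcases hb0 with hb0 | hb0
      · rw [inv_div] at h
        refine ⟨b', e, by rw [hb', Ideal.span_pair_comm], hb0, ?_, h⟩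
        have h3 : (X.germToFunctionField (reg z) b')⁻¹ =
            (X.germToFunctionField (reg z) e / X.germToFunctionField (reg z) b') *
              (X.germToFunctionField (reg z) e)⁻¹ := by
          have : X.germToFunctionField (reg z) e ≠ 0 :=
            fun h => he0 (hinj (h.trans (map_zero _).symm))
          field_simp
        rw [h3]
        exact mem_reg_mul h hn
      · refine ⟨e, b', hb', he0, hn, ?_⟩
        rw [hb0, map_zero, zero_div]
        exact mem_reg.2 ⟨0, map_zero _⟩
  have ha0' : X.germToFunctionField (reg z) a ≠ 0 := fun h => ha0 (hinj (h.trans (map_zero _).symm))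
  refine ⟨X.germToFunctionField (reg z) a, X.germToFunctionField (reg z) b, fun y hy => ?_⟩
  by_cases hyy : y = y₀
  · subst hyy
    refine ⟨_, _, 1, gen_self ha0' h2, (gen_self ha0' ?_).symm, by rw [map_one, one_mul],
      fun _ => isUnit_one, fun h => absurd h hy₀x⟩
    rwa [one_div]
  · obtain ⟨g, u, h3, h4, h5, h6⟩ := exists_gen_of_span hU hdvr x hx hxU hab y hy ((hz y).2 hyy)
    refine ⟨g, 1, u, h3, gen_self one_ne_zero ?_, by rw [mul_one, h4], h5, h6⟩
    rw [div_one]
    exact le_reg_germ _ _ ((hz y).2 hyy)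

end K473.CurveGen
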