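import Groth.Agent.CycB.LineRT
import Groth.Agent.Sga4h.H921.Geo
import Groth.Agent.CurvesA.CurveDvr

/-!
# The affine line over a curve
-/

set_option autoImplicit false
universe u

open CategoryTheory CategoryTheory.Limits AlgebraicGeometry TopologicalSpace Opposite Polynomial

namespace K473.LineGeo

open Groth.Agent Groth.Agent.CycB Groth.Agent.CycB.LineRT Groth.Agent.CycB.FlatDiv

section Fibre

variable {k : Type u} [Field k] {X P : Scheme.{u}} {f : X ⟶ Spec (CommRingCat.of k)}
  {p₁ : P ⟶ X} {p₂ : P ⟶ Spec (CommRingCat.of (Polynomial k))}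

/-- The fibres of the affine line over `X`. -/
theorem exists_fiber_iso
    (hP : IsPullback p₁ p₂ f (Spec.map (CommRingCat.ofHom (Polynomial.C : k →+* Polynomial k))))
    (x : X) : Nonempty (p₁.fiber x ≅ Spec (CommRingCat.of (Polynomial (X.residueField x)))) := by
  have h1 : IsPullback (p₁.fiberι x) (p₁.fiberToSpecResidueField x) p₁
      (X.fromSpecResidueField x) := IsPullback.of_hasPullback _ _
  have h2 := h1.flip.paste_vert hP
  obtain ⟨ψ, hψ⟩ : ∃ ψ : CommRingCat.of k ⟶ X.residueField x,
      Spec.map ψ = X.fromSpecResidueField x ≫ f := ⟨Spec.preimage _, Spec.map_preimage _⟩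
  have h3 := Groth.Agent.Sga4h.H921.Geo.isPullback_poly ψ.hom
  rw [← hψ] at h2
  exact ⟨IsPullback.isoIsPullback _ _ h2 h3⟩

theorem isIntegral_fiber
    (hP : IsPullback p₁ p₂ f (Spec.map (CommRingCat.ofHom (Polynomial.C : k →+* Polynomial k))))
    (x : X) : IsIntegral (p₁.fiber x) := by
  obtain ⟨e⟩ := exists_fiber_iso hP x
  have : Nonempty (p₁.fiber x) := ⟨e.inv (genericPoint _)⟩
  exact isIntegral_of_isOpenImmersion e.hom

theorem dimOne_fiber
    (hP : IsPullback p₁ p₂ f (Spec.map (CommRingCat.ofHom (Polynomial.C : k →+* Polynomial k))))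
    (x : X) : DimOne (p₁.fiber x) := by
  obtain ⟨e⟩ := exists_fiber_iso hP x
  exact DimOne.of_iso e (dimOne_Spec _)

/-- The section `T = c`. -/
noncomputable def sect
    (hP : IsPullback p₁ p₂ f (Spec.map (CommRingCat.ofHom (Polynomial.C : k →+* Polynomial k))))
    (c : k) : X ⟶ P :=
  hP.lift (𝟙 X) (f ≫ Spec.map (CommRingCat.ofHom (Polynomial.evalRingHom c))) (by
    rw [Category.id_comp, Category.assoc, ← Spec.map_comp, ← CommRingCat.ofHom_comp]
    have : (Polynomial.evalRingHom c).comp (Polynomial.C : k →+* Polynomial k) = RingHom.id k := by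
      ext; simp
    rw [this, CommRingCat.ofHom_id, Spec.map_id, Category.comp_id])

@[reassoc (attr := simp)]
theorem sect_fst
    (hP : IsPullback p₁ p₂ f (Spec.map (CommRingCat.ofHom (Polynomial.C : k →+* Polynomial k))))
    (c : k) : sect hP c ≫ p₁ = 𝟙 X := hP.lift_fst _ _ _

@[reassoc]
theorem sect_snd
    (hP : IsPullback p₁ p₂ f (Spec.map (CommRingCat.ofHom (Polynomial.C : k →+* Polynomial k))))
    (c : k) : sect hP c ≫ p₂ = f ≫ Spec.map (CommRingCat.ofHom (Polynomial.evalRingHom c)) :=
  hP.lift_snd _ _ _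

theorem isAffineHom_fst
    (hP : IsPullback p₁ p₂ f (Spec.map (CommRingCat.ofHom (Polynomial.C : k →+* Polynomial k)))) :
    IsAffineHom p₁ :=
  MorphismProperty.of_isPullback (P := @IsAffineHom) hP.flip inferInstance

theorem flat_fst
    (hP : IsPullback p₁ p₂ f (Spec.map (CommRingCat.ofHom (Polynomial.C : k →+* Polynomial k)))) :
    Flat p₁ := by
  have : Flat (Spec.map (CommRingCat.ofHom (Polynomial.C : k →+* Polynomial k))) := by
    rw [HasRingHomProperty.Spec_iff (P := @Flat)]
    rw [CommRingCat.hom_ofHom, ← Polynomial.algebraMap_eq]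
    exact RingHom.flat_algebraMap_iff.mpr (inferInstance : Module.Flat k (Polynomial k))
  exact MorphismProperty.of_isPullback (P := @Flat) hP.flip inferInstance

theorem lft_fst
    (hP : IsPullback p₁ p₂ f (Spec.map (CommRingCat.ofHom (Polynomial.C : k →+* Polynomial k)))) :
    LocallyOfFiniteType p₁ := by
  have : LocallyOfFiniteType
      (Spec.map (CommRingCat.ofHom (Polynomial.C : k →+* Polynomial k))) := by
    rw [HasRingHomProperty.Spec_iff (P := @LocallyOfFiniteType)]
    rw [CommRingCat.hom_ofHom, ← Polynomial.algebraMap_eq, RingHom.finiteType_algebraMap]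
    exact (inferInstance : Algebra.FiniteType k (Polynomial k))
  exact MorphismProperty.of_isPullback (P := @LocallyOfFiniteType) hP.flip inferInstance

theorem isClosedImmersion_sect
    (hP : IsPullback p₁ p₂ f (Spec.map (CommRingCat.ofHom (Polynomial.C : k →+* Polynomial k))))
    (c : k) : IsClosedImmersion (sect hP c) := by
  have := isAffineHom_fst hP
  have h : IsClosedImmersion (sect hP c ≫ p₁) := by
    rw [sect_fst]; infer_instance
  exact IsClosedImmersion.of_comp (sect hP c) p₁

theorem apply_sect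
    (hP : IsPullback p₁ p₂ f (Spec.map (CommRingCat.ofHom (Polynomial.C : k →+* Polynomial k))))
    (c : k) (x : X) : p₁ (sect hP c x) = x := by
  rw [← Scheme.Hom.comp_apply, sect_fst]; rfl

theorem sect_ne
    (hP : IsPullback p₁ p₂ f (Spec.map (CommRingCat.ofHom (Polynomial.C : k →+* Polynomial k))))
    (x : X) : sect hP 0 x ≠ sect hP 1 x := by
  intro h
  have h1 : p₂ (sect hP 0 x) = p₂ (sect hP 1 x) := by rw [h]
  rw [← Scheme.Hom.comp_apply, ← Scheme.Hom.comp_apply, sect_snd, sect_snd,
    Scheme.Hom.comp_apply, Scheme.Hom.comp_apply] at h1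
  have h2 : Ideal.comap (Polynomial.evalRingHom (0 : k)) (f x).asIdeal =
      Ideal.comap (Polynomial.evalRingHom (1 : k)) (f x).asIdeal :=
    congrArg PrimeSpectrum.asIdeal h1
  have h3 : (Polynomial.X : Polynomial k) ∈
      Ideal.comap (Polynomial.evalRingHom (0 : k)) (f x).asIdeal := by
    rw [Ideal.mem_comap]
    simp
  have h4 : (Polynomial.X - 1 : Polynomial k) ∈
      Ideal.comap (Polynomial.evalRingHom (0 : k)) (f x).asIdeal := by
    rw [h2, Ideal.mem_comap]
    simp
  have h5 := Ideal.sub_mem _ h3 h4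
  rw [sub_sub_cancel, Ideal.mem_comap, map_one] at h5
  exact (f x).isPrime.ne_top ((Ideal.eq_top_iff_one _).2 h5)

end Fibre

section Points

variable {k : Type u} [Field k] {X P : Scheme.{u}} {f : X ⟶ Spec (CommRingCat.of k)}
  {p₁ : P ⟶ X} {p₂ : P ⟶ Spec (CommRingCat.of (Polynomial k))}
  (hP : IsPullback p₁ p₂ f (Spec.map (CommRingCat.ofHom (Polynomial.C : k →+* Polynomial k))))

include hP

/-- A point of `P` over a closed point of `X` is closed, or the generic point of its fibre. -/
theorem isClosed_or_eq_fg [∀ x, IsIntegral (p₁.fiber x)] (z : P)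
    (hz : IsClosed ({p₁ z} : Set X)) : IsClosed ({z} : Set P) ∨ z = fg p₁ (p₁ z) := by
  by_cases h : z = fg p₁ (p₁ z)
  · exact Or.inr h
  left
  rw [← closure_subset_iff_isClosed]
  intro w hw
  have hzw : z ⤳ w := specializes_iff_mem_closure.2 hw
  have h1 : p₁ w = p₁ z := by
    have h2 : p₁ w ∈ closure ({p₁ z} : Set X) :=
      specializes_iff_mem_closure.1 (hzw.map p₁.continuous)
    rw [hz.closure_eq] at h2
    exact h2
  obtain ⟨z₀, hz₀⟩ := exists_fiberι p₁ (z := p₁ z) (x := z) rfl
  obtain ⟨w₀, hw₀⟩ := exists_fiberι p₁ (z := p₁ z) (x := w) h1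
  have h3 : z₀ ⤳ w₀ := by
    rw [← DivNat.specializes_iff (p₁.fiberι (p₁ z)), hz₀, hw₀]
    exact hzw
  by_cases h4 : z₀ = w₀
  · rw [Set.mem_singleton_iff, ← hz₀, ← hw₀, h4]
  · exfalso
    have h5 := dimOne_fiber hP _ _ _ h3 h4 (genericPoint _)
    have h6 := (h5.antisymm (genericPoint_specializes z₀)).eq
    apply h
    rw [fg, ← h6, hz₀]

/-- The generic point of a fibre specializes immediately to every other point of the fibre. -/
theorem eq_or_eq_of_fg_specializes [∀ x, IsIntegral (p₁.fiber x)] {w z : P}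
    (h2 : w ⤳ z) (h3 : p₁ w = p₁ z) : w = fg p₁ (p₁ z) ∨ w = z := by
  obtain ⟨z₀, hz₀⟩ := exists_fiberι p₁ (z := p₁ z) (x := z) rfl
  obtain ⟨w₀, hw₀⟩ := exists_fiberι p₁ (z := p₁ z) (x := w) h3
  have h3 : w₀ ⤳ z₀ := by
    rw [← DivNat.specializes_iff (p₁.fiberι (p₁ z)), hz₀, hw₀]
    exact h2
  by_cases h4 : w₀ = z₀
  · right
    rw [← hz₀, ← hw₀, h4]
  · left
    have h5 := dimOne_fiber hP _ _ _ h3 h4 (genericPoint _)
    have h6 := (h5.antisymm (genericPoint_specializes w₀)).eq
    rw [fg, ← h6, hw₀]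

/-- The zero section does not meet the generic points of the fibres. -/
theorem sect_zero_ne_fg [∀ x, IsIntegral (p₁.fiber x)] (x : X) : sect hP 0 x ≠ fg p₁ x := by
  intro h
  have := isClosedImmersion_sect hP 0
  have h1 : fg p₁ x ⤳ sect hP 1 x := fg_specializes p₁ (apply_sect hP 1 x)
  rw [← h] at h1
  obtain ⟨y, hy⟩ := h1.mem_closed (sect hP 0).isClosedEmbedding.isClosed_range ⟨x, rfl⟩
  have h2 : y = x := by
    rw [← apply_sect hP 0 y, hy, apply_sect]
  rw [h2] at hy
  exact sect_ne hP x hy

/-- `δ` drops by one from the generic point of a fibre to the zero section. -/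
theorem delta_fg [∀ x, IsIntegral (p₁.fiber x)] {δ : P → ℤ} (hδ : Cyc.IsDimFun P δ) (x : X) :
    δ (fg p₁ x) = δ (sect hP 0 x) + 1 := by
  refine (hδ _ _ (fg_specializes p₁ (apply_sect hP 0 x)) (sect_zero_ne_fg hP x).symm).2 ?_
  intro w h1 h2
  have h3 : x ⤳ p₁ w := by
    have := h1.map p₁.continuous
    rwa [map_fg] at this
  have h4 : p₁ w ⤳ x := by
    have := h2.map p₁.continuous
    rwa [apply_sect] at this
  have h5 : p₁ w = p₁ (sect hP 0 x) := by
    rw [apply_sect]
    exact (h4.antisymm h3).eq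
  have h6 := eq_or_eq_of_fg_specializes hP h2 h5
  rwa [apply_sect] at h6

end Points

section Delta

variable {k : Type u} [Field k] {X P : Scheme.{u}} {f : X ⟶ Spec (CommRingCat.of k)}
  [IsIntegral X] (hdim : topologicalKrullDim X = 1)
  {p₁ : P ⟶ X} {p₂ : P ⟶ Spec (CommRingCat.of (Polynomial k))}
  (hP : IsPullback p₁ p₂ f (Spec.map (CommRingCat.ofHom (Polynomial.C : k →+* Polynomial k))))
  {δ : P → ℤ} (hδ : Cyc.IsDimFun P δ) {c : ℤ}
  (hc : ∀ z : P, IsClosed ({z} : Set P) → δ z + 1 = c)

/-- The dimension function on `X` with value `c - 1` at closed points. -/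
noncomputable def δX (X : Scheme.{u}) [IsIntegral X] (c : ℤ) : X → ℤ :=
  open Classical in fun x => if x = genericPoint X then c else c - 1

include hdim in
theorem isDimFun_δX (c : ℤ) : Cyc.IsDimFun X (δX X c) := by
  classical
  intro x y hxy hne
  have hy : y ≠ genericPoint X := by
    rintro rfl
    exact hne (hxy.antisymm (genericPoint_specializes x)).eq
  have hx : x = genericPoint X := by
    by_contra hx
    have h1 := (CurvesA.CurveDvr.isClosed_singleton_iff hdim x).2 hx
    have h2 : y ∈ closure ({x} : Set X) := specializes_iff_mem_closure.1 hxy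
    rw [h1.closure_eq] at h2
    exact hne h2.symm
  simp only [δX]
  rw [if_pos hx, if_neg hy]
  omega

include hdim hδ hc in
theorem delta_sect (x : X) : δ (sect hP 0 x) = δX X c x := by
  classical
  have hcl := isClosedImmersion_sect hP 0
  have key : ∀ y : X, y ≠ genericPoint X → δ (sect hP 0 y) + 1 = c := by
    intro y hy
    apply hc
    have h1 := (CurvesA.CurveDvr.isClosed_singleton_iff hdim y).2 hy
    have h2 := (sect hP 0).isClosedEmbedding.isClosedMap _ h1
    rwa [Set.image_singleton] at h2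
  by_cases hx : x = genericPoint X
  · obtain ⟨y, hy⟩ := CurvesA.CurveDvr.exists_ne_genericPoint hdim
    have h1 : sect hP 0 x ⤳ sect hP 0 y := by
      rw [hx]
      exact (genericPoint_specializes y).map (sect hP 0).continuous
    have h2 : sect hP 0 x ≠ sect hP 0 y := by
      intro h
      apply hy
      rw [← hx]
      exact ((sect hP 0).isClosedEmbedding.injective h).symm
    have h3 := (hδ _ _ h1 h2).2 ?_
    · simp only [δX]
      rw [if_pos hx, h3, key y hy]
    · intro w hw1 hw2
      obtain ⟨v, rfl⟩ := hw1.mem_closed (sect hP 0).isClosedEmbedding.isClosed_range ⟨x, rfl⟩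
      by_cases hv : v = genericPoint X
      · left
        rw [hv, hx]
      · right
        have h4 : v ⤳ y := (sect hP 0).isClosedEmbedding.isInducing.specializes_iff.1 hw2
        have h5 := (CurvesA.CurveDvr.isClosed_singleton_iff hdim v).2 hv
        have h6 : y ∈ closure ({v} : Set X) := specializes_iff_mem_closure.1 h4
        rw [h5.closure_eq] at h6
        rw [Set.mem_singleton_iff.1 h6]
  · have h1 := key x hx
    simp only [δX]
    rw [if_neg hx]
    omega

include hdim hP hδ hc in
/-- The relative dimension is one. -/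
theorem shift [∀ x, IsIntegral (p₁.fiber x)] (z : P) (hz : FibGen p₁ z) :
    δ z = δX X c (p₁ z) + 1 := by
  have h1 := delta_fg hP hδ (p₁ z)
  rwa [← eq_fg_of_fibGen p₁ hz, delta_sect hdim hP hδ hc] at h1

include hdim hP hδ hc in
theorem delta_fg' [∀ x, IsIntegral (p₁.fiber x)] (x : X) :
    δ (fg p₁ x) = δX X c x + 1 := by
  rw [delta_fg hP hδ, delta_sect hdim hP hδ hc]

include hdim hP hδ hc in
/-- The vertical points of dimension `c` are the generic points of the fibres. -/
theorem eq_fg_of_delta [∀ x, IsIntegral (p₁.fiber x)] {z : P} (hz : δ z = c)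
    (hx : p₁ z ≠ genericPoint X) : z = fg p₁ (p₁ z) := by
  refine (isClosed_or_eq_fg hP z ((CurvesA.CurveDvr.isClosed_singleton_iff hdim _).2 hx)).resolve_left
    fun h => ?_
  have := hc z h
  omega

end Delta

end K473.LineGeo
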