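import Groth.Agent.Cyc.K473.LineGeo
import Groth.Agent.Cyc.K473.CurveGen

/-!
# Orders of linear polynomials along vertical divisors
-/

set_option autoImplicit false
set_option backward.isDefEq.respectTransparency.types false
universe u

open CategoryTheory CategoryTheory.Limits AlgebraicGeometry TopologicalSpace Opposite Polynomial

namespace K473.LineOrd

open Groth.Agent Groth.Agent.CycB Groth.Agent.CycB.LineRT Groth.Agent.CycB.FlatDiv
  Groth.Agent.CycB.OrdFrac K473.LineGeo K473.CurveGen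

variable {k : Type u} [Field k] {X P : Scheme.{u}} {f : X ⟶ Spec (CommRingCat.of k)}
  {p₁ : P ⟶ X} {p₂ : P ⟶ Spec (CommRingCat.of (Polynomial k))}

/-- The coordinate function. -/
noncomputable def T (p₂ : P ⟶ Spec (CommRingCat.of (Polynomial k))) : Γ(P, ⊤) :=
  p₂.appTop ((Scheme.ΓSpecIso (CommRingCat.of (Polynomial k))).inv (Polynomial.X : Polynomial k))

theorem sect_appTop_T
    (hP : IsPullback p₁ p₂ f (Spec.map (CommRingCat.ofHom (Polynomial.C : k →+* Polynomial k))))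
    (c : k) : (sect hP c).appTop (T p₂) =
      f.appTop ((Scheme.ΓSpecIso (CommRingCat.of k)).inv c) := by
  have h1 : (sect hP c ≫ p₂).appTop = (f ≫ Spec.map (CommRingCat.ofHom
    (Polynomial.evalRingHom c))).appTop := by rw [sect_snd]
  rw [Scheme.Hom.comp_appTop, Scheme.Hom.comp_appTop] at h1
  have h2 := congr($h1 ((Scheme.ΓSpecIso (CommRingCat.of (Polynomial k))).inv
    (Polynomial.X : Polynomial k)))
  rw [CommRingCat.comp_apply, CommRingCat.comp_apply] at h2
  rw [T, h2]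
  congr 1
  have h3 := Scheme.ΓSpecIso_inv_naturality (CommRingCat.ofHom (Polynomial.evalRingHom c))
  have h4 := congr($h3 (Polynomial.X : Polynomial k))
  rw [CommRingCat.comp_apply, CommRingCat.comp_apply] at h4
  rw [← h4]
  congr 1
  change Polynomial.eval c Polynomial.X = c
  rw [Polynomial.eval_X]

theorem germ_app_id {g : X ⟶ X} (hg : g = 𝟙 X) (V : X.Opens) (x : X) (hx : x ∈ g ⁻¹ᵁ V)
    (hx' : x ∈ V) (a : Γ(X, V)) :
    X.presheaf.germ (g ⁻¹ᵁ V) x hx (g.app V a) = X.presheaf.germ V x hx' a := by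
  subst hg
  rw [Scheme.Hom.id_app]
  rfl

/-- The section `a + b T` over `p₁ ⁻¹ V`. -/
noncomputable def lin (p₁ : P ⟶ X) (p₂ : P ⟶ Spec (CommRingCat.of (Polynomial k))) (V : X.Opens)
    (a b : Γ(X, V)) : Γ(P, p₁ ⁻¹ᵁ V) :=
  p₁.app V a + p₁.app V b * P.presheaf.map (homOfLE le_top).op (T p₂)

theorem germ_sect_app_lin
    (hP : IsPullback p₁ p₂ f (Spec.map (CommRingCat.ofHom (Polynomial.C : k →+* Polynomial k))))
    (c : k) (V : X.Opens) (x : X) (hx : x ∈ V) (a b : Γ(X, V)) :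
    (sect hP c).stalkMap x (P.presheaf.germ (p₁ ⁻¹ᵁ V) (sect hP c x)
      (by change p₁ (sect hP c x) ∈ V; rwa [apply_sect]) (lin p₁ p₂ V a b)) =
    X.presheaf.germ V x hx a + X.presheaf.germ V x hx b *
      X.presheaf.germ ⊤ x trivial (f.appTop ((Scheme.ΓSpecIso (CommRingCat.of k)).inv c)) := by
  have hmem : sect hP c x ∈ p₁ ⁻¹ᵁ V := by change p₁ (sect hP c x) ∈ V; rwa [apply_sect]
  have key : ∀ d : Γ(X, V), (sect hP c).stalkMap x (P.presheaf.germ (p₁ ⁻¹ᵁ V) (sect hP c x) hmem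
      (p₁.app V d)) = X.presheaf.germ V x hx d := by
    intro d
    have h1 := Scheme.Hom.germ_stalkMap_apply (sect hP c) (p₁ ⁻¹ᵁ V) x hmem (p₁.app V d)
    rw [h1]
    exact germ_app_id (sect_fst hP c) V x (by rw [sect_fst]; exact hx) hx d
  rw [lin, map_add, map_add, map_mul, map_mul, key, key, TopCat.Presheaf.germ_res_apply]
  congr 2
  have h1 := Scheme.Hom.germ_stalkMap_apply (sect hP c) ⊤ x trivial (T p₂)
  rw [h1, ← sect_appTop_T hP c]
  rfl

theorem mem_basicOpen_lin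
    (hP : IsPullback p₁ p₂ f (Spec.map (CommRingCat.ofHom (Polynomial.C : k →+* Polynomial k))))
    (V : X.Opens) (x : X) (hx : x ∈ V) (a b : Γ(X, V)) {z : P}
    (h0 : z ⤳ sect hP 0 x) (h1 : z ⤳ sect hP 1 x)
    (hab : IsUnit (X.presheaf.germ V x hx a) ∨ IsUnit (X.presheaf.germ V x hx b)) :
    z ∈ P.basicOpen (lin p₁ p₂ V a b) := by
  have hmem : ∀ c : k, sect hP c x ∈ p₁ ⁻¹ᵁ V := by
    intro c
    change p₁ (sect hP c x) ∈ V
    rwa [apply_sect]
  have key : ∀ c : k, IsUnit (X.presheaf.germ V x hx a + X.presheaf.germ V x hx b *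
      X.presheaf.germ ⊤ x trivial (f.appTop ((Scheme.ΓSpecIso (CommRingCat.of k)).inv c))) →
      sect hP c x ∈ P.basicOpen (lin p₁ p₂ V a b) := by
    intro c hc
    rw [Scheme.mem_basicOpen _ _ _ (hmem c)]
    rw [← germ_sect_app_lin hP] at hc
    exact (isUnit_map_iff ((sect hP c).stalkMap x).hom _).1 hc
  by_cases ha : IsUnit (X.presheaf.germ V x hx a)
  · refine h0.mem_open (P.basicOpen _).isOpen (key 0 ?_)
    rw [map_zero, map_zero, map_zero, mul_zero, add_zero]
    exact ha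
  · have hb := hab.resolve_left ha
    refine h1.mem_open (P.basicOpen _).isOpen (key 1 ?_)
    rw [map_one, map_one, map_one, mul_one]
    by_contra h
    have h2 : X.presheaf.germ V x hx a ∈ IsLocalRing.maximalIdeal _ := ha
    have h3 : X.presheaf.germ V x hx a + X.presheaf.germ V x hx b ∈ IsLocalRing.maximalIdeal _ := h
    have h4 := Ideal.sub_mem _ h3 h2
    rw [add_sub_cancel_left] at h4
    exact h4 hb

/-- The element `α + β T` of the local ring at `z`. -/
noncomputable def linS (p₁ : P ⟶ X) (p₂ : P ⟶ Spec (CommRingCat.of (Polynomial k))) (z : P)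
    (α β : X.presheaf.stalk (p₁ z)) : P.presheaf.stalk z :=
  p₁.stalkMap z α + p₁.stalkMap z β * P.presheaf.germ ⊤ z trivial (T p₂)

theorem isUnit_linS
    (hP : IsPullback p₁ p₂ f (Spec.map (CommRingCat.ofHom (Polynomial.C : k →+* Polynomial k))))
    [∀ x, IsIntegral (p₁.fiber x)] {z : P} (hz : z = fg p₁ (p₁ z))
    (α β : X.presheaf.stalk (p₁ z)) (hab : IsUnit α ∨ IsUnit β) : IsUnit (linS p₁ p₂ z α β) := by
  obtain ⟨U₁, hU₁, a, rfl⟩ := X.presheaf.exists_germ_eq α
  obtain ⟨U₂, hU₂, b, rfl⟩ := X.presheaf.exists_germ_eq β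
  let V : X.Opens := U₁ ⊓ U₂
  have hV : p₁ z ∈ V := ⟨hU₁, hU₂⟩
  let a' : Γ(X, V) := X.presheaf.map (homOfLE inf_le_left).op a
  let b' : Γ(X, V) := X.presheaf.map (homOfLE inf_le_right).op b
  have ha : X.presheaf.germ V (p₁ z) hV a' = X.presheaf.germ U₁ (p₁ z) hU₁ a :=
    TopCat.Presheaf.germ_res_apply _ _ _ _ _
  have hb : X.presheaf.germ V (p₁ z) hV b' = X.presheaf.germ U₂ (p₁ z) hU₂ b :=
    TopCat.Presheaf.germ_res_apply _ _ _ _ _
  rw [← ha, ← hb] at hab ⊢
  have hs : ∀ c : k, z ⤳ sect hP c (p₁ z) := by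
    intro c
    have := fg_specializes p₁ (apply_sect hP c (p₁ z))
    rwa [← hz] at this
  have h1 := mem_basicOpen_lin hP V (p₁ z) hV a' b' (hs 0) (hs 1) hab
  rw [Scheme.mem_basicOpen _ _ _ (show z ∈ p₁ ⁻¹ᵁ V from hV)] at h1
  have h2 : P.presheaf.germ (p₁ ⁻¹ᵁ V) z hV (lin p₁ p₂ V a' b') = linS p₁ p₂ z
      (X.presheaf.germ V (p₁ z) hV a') (X.presheaf.germ V (p₁ z) hV b') := by
    rw [lin, linS, map_add, map_mul, TopCat.Presheaf.germ_res_apply,
      Scheme.Hom.germ_stalkMap_apply, Scheme.Hom.germ_stalkMap_apply]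
  rwa [h2] at h1

section Fun

variable [IsIntegral X] [∀ x, IsIntegral (p₁.fiber x)]

/-- The pullback of rational functions. -/
noncomputable def rho (p₁ : P ⟶ X) [∀ x, IsIntegral (p₁.fiber x)] :
    X.functionField →+* P.residueField (fg p₁ (genericPoint X)) :=
  (pullRes p₁ (map_fg p₁ (genericPoint X))).comp (X.residue (genericPoint X)).hom

/-- The coordinate in the residue field at the generic point. -/
noncomputable def Tη (p₁ : P ⟶ X) [∀ x, IsIntegral (p₁.fiber x)]
    (p₂ : P ⟶ Spec (CommRingCat.of (Polynomial k))) :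
    P.residueField (fg p₁ (genericPoint X)) :=
  P.residue _ (P.presheaf.germ ⊤ (fg p₁ (genericPoint X)) trivial (T p₂))

/-- The function `a + b T`. -/
noncomputable def linF (p₁ : P ⟶ X) [∀ x, IsIntegral (p₁.fiber x)]
    (p₂ : P ⟶ Spec (CommRingCat.of (Polynomial k))) (a b : X.functionField) :
    P.residueField (fg p₁ (genericPoint X)) :=
  rho p₁ a + rho p₁ b * Tη p₁ p₂

theorem rho_algebraMap {z : P} (hz : fg p₁ (genericPoint X) ⤳ z) (α : X.presheaf.stalk (p₁ z)) :
    rho p₁ (algebraMap _ X.functionField α) =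
      Cyc.specMap z (fg p₁ (genericPoint X)) hz (p₁.stalkMap z α) := by
  have h1 := pullRes_specMap p₁ hz (map_fg p₁ (genericPoint X))
    (genericPoint_specializes (p₁ z)) α
  exact h1

theorem specMap_linS {z : P} (hz : fg p₁ (genericPoint X) ⤳ z) (α β : X.presheaf.stalk (p₁ z)) :
    Cyc.specMap z (fg p₁ (genericPoint X)) hz (linS p₁ p₂ z α β) =
      linF p₁ p₂ (algebraMap _ X.functionField α) (algebraMap _ X.functionField β) := by
  rw [linS, linF, map_add, map_mul, rho_algebraMap hz, rho_algebraMap hz]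
  congr 2
  rw [Cyc.specMap, CommRingCat.hom_comp, RingHom.comp_apply, Tη]
  congr 1
  exact TopCat.Presheaf.germ_stalkSpecializes_apply _ _ _ _

theorem linF_mul (a b g : X.functionField) :
    linF p₁ p₂ (a * g) (b * g) = linF p₁ p₂ a b * rho p₁ g := by
  rw [linF, linF, map_mul, map_mul]
  ring

end Fun

end K473.LineOrd
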