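import Groth.Agent.Cyc.K473.LineOrd

/-!
# Principal divisors with one vertical component
-/

set_option autoImplicit false
set_option backward.isDefEq.respectTransparency.types false
universe u

open CategoryTheory CategoryTheory.Limits AlgebraicGeometry TopologicalSpace Opposite

namespace K473.VertMain

open Groth.Agent Groth.Agent.CycB Groth.Agent.CycB.LineRT Groth.Agent.CycB.FlatDiv
  Groth.Agent.CycB.OrdFrac K473.LineGeo K473.CurveGen K473.LineOrd

theorem ord_eq_one {R : Type*} [CommRing R] [IsLocalRing R] {u : R}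
    (hu : Ideal.span {u} = IsLocalRing.maximalIdeal R) : Ring.ord R u = 1 := by
  rw [Ring.ord, hu]
  have : IsSimpleModule R (R ⧸ IsLocalRing.maximalIdeal R) :=
    isSimpleModule_iff_isCoatom.2 (Ideal.isMaximal_def.1 (IsLocalRing.maximalIdeal.isMaximal R))
  exact Module.length_eq_one _ _

variable {k : Type u} [Field k] {X P : Scheme.{u}} {f : X ⟶ Spec (CommRingCat.of k)}
  {p₁ : P ⟶ X} {p₂ : P ⟶ Spec (CommRingCat.of (Polynomial k))} [IsIntegral X]
  [∀ x, IsIntegral (p₁.fiber x)]

theorem linF_ne_zero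
    (hP : IsPullback p₁ p₂ f (Spec.map (CommRingCat.ofHom (Polynomial.C : k →+* Polynomial k))))
    {z : P} (hz : z = fg p₁ (p₁ z)) (hsp : fg p₁ (genericPoint X) ⤳ z) {a b g : X.functionField}
    (h : Gen (p₁ z) a b g) : linF p₁ p₂ a b ≠ 0 := by
  obtain ⟨hg, α, β, ha, hb, hu⟩ := h
  rw [← ha, ← hb, linF_mul, ← specMap_linS hsp]
  refine mul_ne_zero ?_ ((_root_.map_ne_zero _).2 hg)
  exact ((isUnit_linS hP hz α β hu).map _).ne_zero

theorem ordAt_linF
    (hP : IsPullback p₁ p₂ f (Spec.map (CommRingCat.ofHom (Polynomial.C : k →+* Polynomial k))))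
    {z : P} (hz : z = fg p₁ (p₁ z)) (hsp : fg p₁ (genericPoint X) ⤳ z) {a b g : X.functionField}
    (h : Gen (p₁ z) a b g) : Cyc.ordAt z _ hsp (linF p₁ p₂ a b) = Cyc.ordAt z _ hsp (rho p₁ g) := by
  obtain ⟨hg, α, β, ha, hb, hu⟩ := h
  rw [← ha, ← hb, linF_mul, ← specMap_linS hsp]
  have hu' := isUnit_linS hP hz α β hu
  rw [ordAt_mul hsp (hu'.map _).ne_zero ((_root_.map_ne_zero _).2 hg), ordAt_specMap_of_isUnit hsp hu',
    zero_add]

section Delta

variable (hdim : topologicalKrullDim X = 1)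
  (hP : IsPullback p₁ p₂ f (Spec.map (CommRingCat.ofHom (Polynomial.C : k →+* Polynomial k))))
  {δ : P → ℤ} (hδ : Cyc.IsDimFun P δ) {c : ℤ}
  (hc : ∀ z : P, IsClosed ({z} : Set P) → δ z + 1 = c)
  [IsLocallyNoetherian P] [IsLocallyNoetherian X]

include hdim hP hδ hc in
theorem ordAt_rho {z : P} (hz : z = fg p₁ (p₁ z)) (hx : p₁ z ≠ genericPoint X)
    (hsp : fg p₁ (genericPoint X) ⤳ z)
    {g : X.functionField} (hg : g ≠ 0) :
    Cyc.ordAt z _ hsp (rho p₁ g) = Cyc.ordAt (p₁ z) _ (genericPoint_specializes (p₁ z))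
      (X.residue (genericPoint X) g) := by
  have := flat_fst hP
  have hsh := shift hdim hP hδ hc
  have h1 := pull_divFun p₁ (isDimFun_δX hdim c) hδ hsh (genericPoint X)
    (X.residue (genericPoint X) g) ((_root_.map_ne_zero _).2 hg)
  have h2 := congrFun h1 z
  have h3 : δ z = δX X c (p₁ z) + 1 := by
    have := delta_fg' hdim hP hδ hc (p₁ z)
    rwa [← hz] at this
  have h4 : mult p₁ z = 1 := by
    have := mult_fg p₁ (p₁ z)
    rwa [← hz] at this
  have h5 : δX X c (p₁ z) + 1 = δX X c (genericPoint X) := by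
    simp only [δX]
    rw [if_neg hx, if_pos trivial]
    omega
  have h6 : δ z + 1 = δ (fg p₁ (genericPoint X)) := by
    rw [delta_fg' hdim hP hδ hc, h3, h5]
  rw [pull_apply, if_pos h3, h4, divFun_apply _ (genericPoint_specializes _) h5,
    divFun_apply _ hsp h6] at h2
  rw [ENat.toNat_one, Nat.cast_one, mul_one] at h2
  exact h2.symm

include hdim in
omit [∀ x, IsIntegral (p₁.fiber x)] in
theorem ordAt_algebraMap {x : X} (hx : x ≠ genericPoint X) {u : X.presheaf.stalk x}
    (hu : Ideal.span {u} = IsLocalRing.maximalIdeal _)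
    (hu0 : algebraMap _ X.functionField u ≠ 0) :
    Cyc.ordAt x _ (genericPoint_specializes x)
      (X.residue (genericPoint X) (algebraMap _ X.functionField u)) = 1 := by
  have hs : δX X 0 x + 1 = δX X 0 (genericPoint X) := by
    simp only [δX]
    rw [if_neg hx, if_pos trivial]
    omega
  have h1 : Cyc.specMap x (genericPoint X) (genericPoint_specializes x) u ≠ 0 :=
    (_root_.map_ne_zero (X.residue (genericPoint X)).hom).2 hu0
  have h2 := ordAt_specMap (isDimFun_δX hdim 0) (genericPoint_specializes x) hs h1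
  refine Eq.trans h2 ?_
  rw [ord_eq_one]
  · rfl
  · rw [← Set.image_singleton, ← Ideal.map_span, hu]
    exact IsLocalRing.map_maximalIdeal_of_surjective _ Ideal.Quotient.mk_surjective

include hdim hP hδ hc in
/-- There is a rational function on `P` whose divisor has the single vertical component over `x`. -/
theorem exists_fun [IsProper f] [Smooth f] (x : X) (hx : x ≠ genericPoint X) :
    ∃ G : P.residueField (fg p₁ (genericPoint X)), G ≠ 0 ∧
      ∀ z : P, z = fg p₁ (p₁ z) → p₁ z ≠ genericPoint X →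
        Cyc.divFun δ (fg p₁ (genericPoint X)) G z = open Classical in if p₁ z = x then 1 else 0 := by
  classical
  obtain ⟨a, b, hab⟩ := exists_pair f hdim x hx
  have hfl := flat_fst hP
  have hsp : ∀ z : P, fg p₁ (genericPoint X) ⤳ z := by
    intro z
    obtain ⟨y, hy, hy'⟩ := Flat.generalizingMap p₁ (genericPoint_specializes (p₁ z))
    exact (fg_specializes p₁ hy').trans hy
  have key : ∀ z : P, z = fg p₁ (p₁ z) → p₁ z ≠ genericPoint X →
      linF p₁ p₂ a b ≠ 0 ∧ linF p₁ p₂ 1 a ≠ 0 ∧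
      Cyc.ordAt z _ (hsp z) (linF p₁ p₂ a b / linF p₁ p₂ 1 a) = if p₁ z = x then 1 else 0 := by
    intro z hz hzη
    obtain ⟨g₁, g₂, u, h1, h2, h3, h4, h5⟩ := hab (p₁ z) hzη
    have n1 := linF_ne_zero hP hz (hsp z) h1
    have n2 := linF_ne_zero hP hz (hsp z) h2
    refine ⟨n1, n2, ?_⟩
    have hu0 : algebraMap _ X.functionField u ≠ 0 := by
      intro h
      rw [h, zero_mul] at h3
      exact h1.1 h3
    rw [ordAt_div _ n1 n2, ordAt_linF hP hz (hsp z) h1, ordAt_linF hP hz (hsp z) h2,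
      ordAt_rho hdim hP hδ hc hz hzη (hsp z) h1.1, ordAt_rho hdim hP hδ hc hz hzη (hsp z) h2.1,
      ← ordAt_div _ ((_root_.map_ne_zero _).2 h1.1) ((_root_.map_ne_zero _).2 h2.1)]
    have h6 : X.residue (genericPoint X) g₁ / X.residue (genericPoint X) g₂ =
        X.residue (genericPoint X) (algebraMap _ X.functionField u) := by
      have h7 : (X.residue (genericPoint X)) g₂ ≠ 0 := (_root_.map_ne_zero _).2 h2.1
      rw [h3, map_mul]
      field_simp
    rw [h6]
    split_ifs with hzx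
    · exact ordAt_algebraMap hdim hzη (h5 hzx) hu0
    · exact ordAt_specMap_of_isUnit (genericPoint_specializes (p₁ z)) (h4 hzx)
  obtain ⟨x', hx'⟩ := CurvesA.CurveDvr.exists_ne_genericPoint hdim
  obtain ⟨n1, n2, -⟩ := key (fg p₁ x') (by rw [map_fg]) (by rwa [map_fg])
  refine ⟨linF p₁ p₂ a b / linF p₁ p₂ 1 a, div_ne_zero n1 n2, fun z hz hzη => ?_⟩
  have h6 : δ z + 1 = δ (fg p₁ (genericPoint X)) := by
    have h7 := delta_fg' hdim hP hδ hc (p₁ z)
    rw [← hz] at h7
    rw [delta_fg' hdim hP hδ hc, h7]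
    simp only [δX]
    rw [if_neg hzη, if_pos trivial]
    omega
  rw [divFun_apply _ (hsp z) h6]
  exact (key z hz hzη).2.2

end Delta

theorem main
    (k : Type u) [Field k] {X P : Scheme.{u}} (f : X ⟶ Spec (CommRingCat.of k))
    [IsIntegral X] [IsProper f] [Smooth f] (hdim : topologicalKrullDim X = 1)
    (p₁ : P ⟶ X) (p₂ : P ⟶ Spec (CommRingCat.of (Polynomial k)))
    (hP : IsPullback p₁ p₂ f (Spec.map (CommRingCat.ofHom (Polynomial.C : k →+* Polynomial k))))
    (δ : P → ℤ) (hδ : Cyc.IsSetup P δ) (c : ℤ)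
    (hc : ∀ z : P, IsClosed ({z} : Set P) → δ z + 1 = c)
    (α : AlgebraicCycle P ℤ) (hα : α ∈ Cyc.Zk P δ c) :
    ∃ β ∈ Cyc.Zk P δ c, Cyc.RatEquiv δ c α β ∧ ∀ z : P, β z ≠ 0 → p₁ z = genericPoint X := by
  classical
  have hint : ∀ x, IsIntegral (p₁.fiber x) := isIntegral_fiber hP
  have hLN : IsLocallyNoetherian X := LocallyOfFiniteType.isLocallyNoetherian f
  have hLP := hδ.1
  have haff := isAffineHom_fst hP
  have hcomp : CompactSpace P := by
    have : CompactSpace X := HasAffineProperty.iff_of_isAffine.mp (inferInstance : QuasiCompact f)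
    exact QuasiCompact.compactSpace_of_compactSpace p₁
  let S : Type u := {w : P // α w ≠ 0 ∧ p₁ w ≠ genericPoint X}
  have hfin : Finite S := by
    have h1 := (DivFun.locFin_support α).finite_of_isCompact (K := Set.univ) isCompact_univ
    have h2 : Finite {w : P // α w ≠ 0} := by
      rw [← Set.finite_univ_iff]
      exact h1.subset fun _ _ => trivial
    exact Finite.of_injective (fun w : S => (⟨w.1, w.2.1⟩ : {w : P // α w ≠ 0}))
      fun a b hab => Subtype.ext (congrArg (fun z : {w : P // α w ≠ 0} => z.1) hab)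
  choose G hG0 hG using fun w : S => exists_fun hdim hP hδ.2.2 hc (p₁ w.1) w.2.2
  have hδw : ∀ w : S, δ w.1 = c := by
    intro w
    by_contra h
    exact w.2.1 (hα w.1 h)
  have hfg : ∀ z : P, δ z = c → p₁ z ≠ genericPoint X → z = fg p₁ (p₁ z) := fun z h1 h2 =>
    eq_fg_of_delta hdim hP hδ.2.2 hc h1 h2
  have hξ : δ (fg p₁ (genericPoint X)) = c + 1 := by
    rw [delta_fg' hdim hP hδ.2.2 hc]
    simp only [δX]
    rw [if_pos trivial]
  let F : (w : S) → P.residueField (fg p₁ (genericPoint X)) := fun w => G w ^ (α w.1)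
  have hloc : DivFun.LocFin (fun _ : S => fg p₁ (genericPoint X)) := DivFun.LocFin.of_finite _
  obtain ⟨γ, hγ⟩ := DivFun.exists_cycle_sum_divFun hδ.2.2 hloc F
  have hγ0 : Cyc.RatEquivZero δ c γ :=
    DivFun.ratEquivZero_of (fun _ : S => fg p₁ (genericPoint X)) F (fun _ => hξ)
      (fun w => zpow_ne_zero _ (hG0 w)) hloc γ hγ
  have hγZ := DivFun.RatEquivZero.mem_Zk hγ0
  refine ⟨α - γ, ?_, ?_, ?_⟩
  · intro z hz
    change α z - γ z = 0
    rw [hα z hz, hγZ z hz, sub_zero]
  · rw [Cyc.RatEquiv, sub_sub_cancel]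
    exact hγ0
  · intro z hz
    change α z - γ z ≠ 0 at hz
    by_contra hzη
    apply hz
    have hzc : δ z = c := by
      by_contra h
      exact hz (by rw [hα z h, hγZ z h, sub_zero])
    have hzfg := hfg z hzc hzη
    have h1 : ∀ w : S, Cyc.divFun δ (fg p₁ (genericPoint X)) (F w) z =
        α w.1 * (if z = w.1 then 1 else 0) := by
      intro w
      rw [divFun_zpow, Pi.smul_apply, smul_eq_mul, hG w z hzfg hzη]
      congr 1
      have h2 : p₁ z = p₁ w.1 ↔ z = w.1 := by
        constructor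
        · intro h
          rw [hzfg, h, ← hfg w.1 (hδw w) w.2.2]
        · intro h
          rw [h]
      simp only [h2]
    rw [hγ, finsum_congr h1]
    by_cases hz0 : α z = 0
    · rw [hz0, finsum_eq_zero_of_forall_eq_zero, sub_zero]
      intro w
      rw [if_neg, mul_zero]
      rintro rfl
      exact w.2.1 hz0
    · rw [finsum_eq_single _ (⟨z, hz0, hzη⟩ : S), if_pos rfl, mul_one, sub_self]
      intro w hw
      rw [if_neg, mul_zero]
      rintro rfl
      exact hw rfl

end K473.VertMain
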